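import Cfsg.Agent.Lib.Helper3.L29.L1D
import Cfsg.Agent.Lib.Helper3.L29.Net

set_option autoImplicit false
set_option maxRecDepth 100000

namespace Cfsg.Agent.Lib.Helper3.L29.L1

open Cfsg.Agent.Lib.Helper11 Cfsg.Agent.Lib.Helper3

set_option maxHeartbeats 0
set_option Elab.async false

noncomputable def fc (i : ℕ) : ℕ := (fc0_0 i)
noncomputable def sc (i : ℕ) : ℕ := (sc0_0 i)
noncomputable def nc (i : ℕ) : ℕ := (nc0_0 i)
noncomputable def cc (i : ℕ) : ℕ := (cc0_0 i)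

def isH (l : ℕ) : Bool := decide (l ∈ [5, 7])
def gens : List ℕ := [1, 2]
def hl : List ℕ := [5, 7]
def dl : List (List ℕ × ℕ) := [([1], 3), ([2], 4), ([4, 1, 4], 6), ([6], 5), ([2, 2, 3], 8), ([8], 7), ([5, 5, 8], 10), ([10], 9)]
def BR_0 : List (List ℕ) := [[], [4, 1, 4, 6], [2, 2, 3, 8], [1, 1, 1], [2, 2, 2, 2], [1, 4, 1, 4, 1, 4, 1, 4, 1, 4], [3, 4, 3, 4, 3, 4, 3, 4, 3, 4], [1, 4, 4, 1, 4, 4, 1, 4, 4, 1, 4, 4], [1, 1, 1, 2, 1, 1, 1, 2, 1, 1, 1, 2, 1, 1, 1, 2], [1, 4, 3, 2, 1, 4, 3, 2]]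
def BR : List (List ℕ) := BR_0
set_option maxRecDepth 10000000 in
noncomputable def rt : RT := (.node 6 (.node 3 (.node 1 (.leaf 0 0 []) (.node 2 (.leaf 3 1 [1, 1, 1]) (.leaf 2 1 [2, 3, 8, 2]))) (.node 4 (.leaf 4 2 [2, 2, 2, 2]) (.node 5 (.leaf 1 1 [1, 4, 6, 4]) (.leaf 9 4 [1, 4, 3, 2, 1, 4, 3, 2])))) (.node 9 (.node 7 (.leaf 5 7 [4, 1, 4, 1, 4, 1, 4, 1, 4, 1]) (.node 8 (.leaf 6 2 [3, 4, 3, 4, 3, 4, 3, 4, 3, 4]) (.leaf 7 5 [4, 1, 4, 4, 1, 4, 4, 1, 4, 4, 1, 4]))) (.node 10 (.leaf 9 5 [4, 3, 2, 1, 4, 3, 2, 1]) (.node 11 (.leaf 8 13 [1, 1, 2, 1, 1, 1, 2, 1, 1, 1, 2, 1, 1, 1, 2, 1]) (.leaf 5 5 [4, 1, 4, 1, 4, 1, 4, 1, 4, 1])))))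

theorem b0 : allR (guardB 1 (blk fc sc rt.get Cfsg.Agent.Lib.Helper3.L29.INV isH)) 1 0 = true := by decide +kernel
theorem c0 : allR (guardB 1 (cblk fc nc cc 256 10 79228162514264337593543950336 gens)) 1 0 = true := by decide +kernel

theorem chkAll : ∀ j < 1, blk fc sc rt.get Cfsg.Agent.Lib.Helper3.L29.INV isH j = true :=
  guardB_spec (D := 1) b0 (by norm_num)

theorem clAll : ∀ jb < 1, cblk fc nc cc (256 * 1) 10 79228162514264337593543950336 gens jb = true :=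
  guardB_spec (D := 1) c0 (by norm_num)

theorem hid_0 : BR_0.all (wordId (ntOf Cfsg.Agent.Lib.Helper3.L29.ntl) 4) = true := by decide +kernel
theorem hid : BR.all (wordId (ntOf Cfsg.Agent.Lib.Helper3.L29.ntl) 4) = true := by
  simp only [BR, List.all_append, hid_0, Bool.and_self]

theorem card_eq : Nat.card (lgrp (vL Cfsg.Agent.Lib.Helper3.L29.ntl Cfsg.Agent.Lib.Helper3.L29.deg) gens) = 10 * Nat.card (lgrp (vL Cfsg.Agent.Lib.Helper3.L29.ntl Cfsg.Agent.Lib.Helper3.L29.deg) hl) :=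
  Cfsg.Agent.Lib.Helper3.L29.setup.level gens hl dl BR (by decide +kernel) (by decide +kernel) hid (by decide +kernel)
    (by decide +kernel) rt (by decide +kernel) isH (fun l h => of_decide_eq_true h) fc sc nc cc 1 1 10 79228162514264337593543950336
    (by norm_num) (by norm_num) (by decide +kernel) (by decide) chkAll clAll
    0 0 4 (by norm_num [Cfsg.Agent.Lib.Helper3.L29.deg]) (by norm_num [Cfsg.Agent.Lib.Helper3.L29.deg]) (by decide +kernel) (by decide +kernel)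

theorem ub {M : Type*} [Group M] (w : ℕ → M) (h0 : w 0 = 1) (hinv : ∀ l, w (invL Cfsg.Agent.Lib.Helper3.L29.INV l) = (w l)⁻¹)
    (hBR : ∀ r ∈ BR, (r.map w).prod = 1)
    (hdlr : ∀ r ∈ dl.map (fun p => p.1 ++ [p.2]), (r.map w).prod = 1) (N : ℕ) (hN : Bd w hl N) :
    Bd w gens (10 * N) :=
  level_bd w Cfsg.Agent.Lib.Helper3.L29.INV h0 hinv gens hl dl BR (by decide +kernel) hdlr hBR (by decide +kernel) (by decide +kernel)
    rt (by decide +kernel) isH (fun l h => of_decide_eq_true h) fc sc nc cc 1 1 10 79228162514264337593543950336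
    (by norm_num) (by norm_num) (by decide +kernel) (by decide) chkAll clAll N hN

end Cfsg.Agent.Lib.Helper3.L29.L1
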