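import Mathlib

set_option autoImplicit false
set_option maxRecDepth 100000

namespace Cfsg.Agent.Lib.Helper3.L29.L1

noncomputable def fc0_0 (i : ℕ) : ℕ := (nat_lit 0x90001220000090001240000080001230000090001010000080001020000080001040000060000e20000070000c40000040000e10000070000830000070000a20000050000e40000050000a30000050000a10000040000630000030000810000010000840000040000220000030000240000010000620000010000430000020000210000000000080000000000070000000000060000000000050000060001210000090000c30000060001030000080000c10000030000e30000070000610000020000c20000060000440000020000a4000005000042000000000082000004000004000000000064000003000002000000000041000002000003000000000023000001000001)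
noncomputable def sc0_0 (i : ℕ) : ℕ := (nat_lit 0x100000300001b00001f00001300000e0000060000050000180009000b00001900000200001b00000b00000400000600000900000900000900001f00001100002700002400001c000016000f000a00001700000000000300001f00002200001a0000160007000900001900000d00000800001d00002000001a00000300001700000a000008000000000b000800001b00002000000600000400000800000a0000180000020000010009000700001300000600001f00001a00000300001900001c0000160000010009000600001500001b00001800000100000300000600001400070005000015000008000016000300040000010000150000120003000300001300000200001600030002000015000012000200010000fffe0000fffe0000ffff0000ffff0000ffff0000ffff0000ffff0000ffff0000ffff0000ffff0000ffff)
noncomputable def nc0_0 (i : ℕ) : ℕ := (nat_lit 0x9000008000007000006000005000004000003000002000001000000)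
noncomputable def cc0_0 (i : ℕ) : ℕ := (nat_lit 0x900002b00000800002800000800002700000600000e00000500002100000300000c00000700002500000900001100000200000800000500001e00000100001a00000700002300000000000400000400001c00000600000b000001000016000003000018000000000000000004000007000002000003)

end Cfsg.Agent.Lib.Helper3.L29.L1
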