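import Mathlib

set_option autoImplicit false
set_option maxRecDepth 100000

namespace Cfsg.Agent.Lib.Helper3.L29.L2

noncomputable def fc0_0 (i : ℕ) : ℕ := (nat_lit 0x60001070000080000c80000070000880000040000e70000060000e50000070000c60000080001060000080001050000040000e60000070000850000020000470000020000480000060000a60000050000c50000050000860000040000a500000300004600000200006500000100006600000300002500000000000a0000000000090000050001080000080000a70000030000e80000070000670000010000c70000060000280000010000a8000005000027000000000087000004000008000000000068000003000007000000000045000002000006000000000026000001000005)
noncomputable def sc0_0 (i : ℕ) : ℕ := (nat_lit 0xa00000c00001d00002200001000001600000300000a000014000004000004000b000a00000100000800001900000e00000c00000600001f00002000001600000800000a000b000900001500001f00001a00000a00000500000b0000120007000800000f00000500001300001d00001600000700000e0007000700000500000300001100001b00001800000700000e000700060000050000070000190000140000070000190000160007000500000d00001700001200000500000e0005000400000d00001500000e000300030000010000130000100003000200001100000000000c000300010000fffe0000ffff0000ffff0000ffff0000ffff0000ffff0000ffff0000ffff0000ffff)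
noncomputable def nc0_0 (i : ℕ) : ℕ := (nat_lit 0x8000007000006000005000004000003000002000001000000)
noncomputable def cc0_0 (i : ℕ) : ℕ := (nat_lit 0x500000e00000800001e00000300000c00000400001c00000800002500000700002100000100000800000600001800000700002200000500001600000000000400000100001200000200001b00000300001400000600000b000000000000000004000007000002000003)

end Cfsg.Agent.Lib.Helper3.L29.L2
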